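import Cfsg.Agent.H25.FixedVector.Fixed
import Cfsg.Agent.H60.ExtraspecialRep

/-!
The counting step: elements of an extraspecial group of odd prime exponent cannot cover a module by
their fixed spaces.
-/

set_option autoImplicit false
set_option linter.style.haveILetI false
set_option linter.unusedSectionVars false

namespace Cfsg.Agent.H25.FixedVector

theorem pow_lt_fermat {p : ℕ} (hp : 3 ≤ p) : ∀ w : ℕ,
    p ^ (2 * (w + 1) + 1) < (p - 1) * (p + 1) ^ (p ^ w * (p - 1))
  | 0 => by
    rcases hp.eq_or_lt with h | h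
    · subst h; norm_num
    · calc p ^ 3 ≤ p ^ (p - 1) := Nat.pow_le_pow_right (by omega) (by omega)
        _ ≤ 1 * (p + 1) ^ (p - 1) := by rw [one_mul]; exact Nat.pow_le_pow_left (by omega) _
        _ < (p - 1) * (p + 1) ^ (p ^ 0 * (p - 1)) := by
          simp only [pow_zero, one_mul]
          exact lt_mul_of_one_lt_left (Nat.pow_pos (by omega)) (by omega)
  | w + 1 => by
    have ih := pow_lt_fermat hp w
    have hw1 : 1 ≤ p ^ w := Nat.one_le_pow _ _ (by omega)
    have h1 : 2 ≤ p ^ w * (p - 1) := by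
      calc 2 = 1 * 2 := rfl
        _ ≤ p ^ w * (p - 1) := Nat.mul_le_mul hw1 (by omega)
    have h2 : p ^ w * (p - 1) + 2 ≤ p ^ (w + 1) * (p - 1) := by
      have e : p ^ (w + 1) * (p - 1) = p * (p ^ w * (p - 1)) := by rw [pow_succ']; ring
      have h3 : 3 * (p ^ w * (p - 1)) ≤ p * (p ^ w * (p - 1)) := Nat.mul_le_mul_right _ hp
      omega
    calc p ^ (2 * (w + 1 + 1) + 1) = p ^ (2 * (w + 1) + 1) * p ^ 2 := by rw [← pow_add]; ring_nf
      _ < (p - 1) * (p + 1) ^ (p ^ w * (p - 1)) * p ^ 2 :=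
        Nat.mul_lt_mul_of_pos_right ih (Nat.pow_pos (by omega))
      _ ≤ (p - 1) * (p + 1) ^ (p ^ w * (p - 1)) * (p + 1) ^ 2 :=
        Nat.mul_le_mul_left _ (Nat.pow_le_pow_left (by omega) _)
      _ = (p - 1) * (p + 1) ^ (p ^ w * (p - 1) + 2) := by rw [pow_add]; ring
      _ ≤ _ := Nat.mul_le_mul_left _ (Nat.pow_le_pow_right (by omega) h2)

variable {G V : Type*} [Group G] [Finite G] [AddCommGroup V] [Finite V] [DistribMulAction G V]

/-- If all nonzero vectors are fixed by non-central elements of an extraspecial-like subgroup `D`,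
contradiction. -/
theorem exists_unfixed_of_extraspecial {p : ℕ} [hp : Fact p.Prime] (hp2 : p ≠ 2) {r : ℕ} [hr : Fact r.Prime]
    (hpr : p ≠ r) (hr0 : ∀ v : V, r • v = 0) [Nontrivial V] (D : Subgroup G)
    (hexp : ∀ x ∈ D, x ^ p = 1) (hZ : Nat.card (Subgroup.center D) = p)
    (hc : commutator D ≤ Subgroup.center D)
    (hsr : ∀ z : D, z ∈ Subgroup.center D → z ≠ 1 → ∀ v : V, (z : G) • v = v → v = 0)
    (hna : ∃ x : D, x ∉ Subgroup.center D) :
    ∃ v : V, ∀ x : D, x ∉ Subgroup.center D → (x : G) • v ≠ v := by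
  classical
  haveI := Fintype.ofFinite V
  haveI := Fintype.ofFinite D
  have hco : p.Coprime (Nat.card V) := by
    rw [hp.out.coprime_iff_not_dvd]
    intro hd
    obtain ⟨v, hv⟩ := exists_prime_addOrderOf_dvd_card' p hd
    have := addOrderOf_dvd_of_nsmul_eq_zero (hr0 v)
    rw [hv] at this
    exact hpr ((Nat.prime_dvd_prime_iff_eq hp.out hr.out).1 this)
  obtain ⟨m, hm⟩ := Cfsg.Agent.PGroups.card_eq_of_center_card (p := p)
    (fun x => ⟨1, by rw [pow_one]; exact Subtype.ext (hexp x x.2)⟩) hc hZ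
  obtain ⟨x0, hx0⟩ := hna
  obtain ⟨w, rfl⟩ : ∃ w, m = w + 1 := by
    refine Nat.exists_eq_succ_of_ne_zero fun h => hx0 ?_
    have : Subgroup.center D = ⊤ := Subgroup.eq_top_of_card_eq _ (by rw [hZ, hm, h]; simp)
    exact this ▸ Subgroup.mem_top x0
  -- the lower bound on the dimension
  obtain ⟨v0, hv0⟩ := exists_ne (0 : V)
  obtain ⟨z, hz, hz1⟩ : ∃ z ∈ Subgroup.center D, z ≠ 1 := by
    haveI : Nontrivial (Subgroup.center D) := Finite.one_lt_card_iff_nontrivial.1 (by rw [hZ]; exact hp.out.one_lt)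
    obtain ⟨z, hz⟩ := exists_ne (1 : Subgroup.center D)
    exact ⟨z, z.2, fun h => hz (Subtype.ext h)⟩
  letI := AddCommGroup.zmodModule (n := r) (G := V) hr0
  have hex : ∃ k : ℕ, 1 ≤ k ∧ p ∣ r ^ k - 1 := ⟨p - 1, by have := hp.out.two_le; omega, by
    have h := Nat.ModEq.pow_totient ((Nat.coprime_primes hr.out hp.out).2 (Ne.symm hpr))
    rw [Nat.totient_prime hp.out] at h
    exact (Nat.modEq_iff_dvd' (Nat.one_le_pow _ _ hr.out.pos)).1 h.symm⟩
  set k := Nat.find hex with hk
  have hbound : r ^ (k * p ^ (w + 1)) ≤ Nat.card V :=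
    Cfsg.Agent.H60.addAction_bound (E := D) (p := p) (r := r)
      (fun g => DistribSMul.toAddMonoidHom V (g : G)) (fun v => one_smul G v)
      (fun g h v => mul_smul (g : G) (h : G) v) hz hZ hc
      ⟨v0, fun h => hv0 (hsr z hz hz1 v0 h)⟩ hpr hm (fun j h1 h2 => Nat.find_min' hex ⟨h1, h2⟩)
  have hQ : p + 1 ≤ r ^ k := by
    obtain ⟨hk1, hkd⟩ : 1 ≤ k ∧ p ∣ r ^ k - 1 := Nat.find_spec hex
    have h1 : 2 ≤ r ^ k := hr.out.two_le.trans (Nat.le_self_pow (by omega) r)
    have := Nat.le_of_dvd (by omega) hkd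
    omega
  have hX : (p + 1) ^ p ^ (w + 1) ≤ Nat.card V :=
    (Nat.pow_le_pow_left hQ _).trans (by rwa [← pow_mul])
  -- each fixed space is small
  have hM : ∀ x : D, x ∉ Subgroup.center D →
      Nat.card (fixedVec (Subgroup.zpowers (x : G)) : AddSubgroup V) ^ p ≤ Nat.card V := by
    intro x hx
    obtain ⟨y, hy⟩ : ∃ y : D, y * x ≠ x * y := by
      by_contra h
      push Not at h
      exact hx (Subgroup.mem_center_iff.2 h)
    set c : D := y * x * y⁻¹ * x⁻¹ with hcdef
    have hcc : c ∈ Subgroup.center D :=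
      hc (Subgroup.commutator_mem_commutator (Subgroup.mem_top y) (Subgroup.mem_top x))
    have hc1 : c ≠ 1 := fun h => hy (by rwa [hcdef, mul_inv_eq_one, mul_inv_eq_iff_eq_mul] at h)
    have hxc : Commute x c := Subgroup.mem_center_iff.1 hcc x
    have hconj : ∀ i : ℕ, y ^ i * x * (y ^ i)⁻¹ = x * c ^ i := by
      intro i
      induction i with
      | zero => simp
      | succ i ih =>
        have hyc : y * c = c * y := Subgroup.mem_center_iff.1 hcc y
        calc y ^ (i + 1) * x * (y ^ (i + 1))⁻¹ = y * (y ^ i * x * (y ^ i)⁻¹) * y⁻¹ := by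
              rw [pow_succ']; group
          _ = y * x * y⁻¹ * (y * c ^ i * y⁻¹) := by rw [ih]; group
          _ = c * x * c ^ i := by
              rw [(Commute.pow_right hyc i).eq, mul_inv_cancel_right, hcdef]; group
          _ = x * c ^ (i + 1) := by rw [← hxc.eq, mul_assoc, ← pow_succ']
    let K : Fin p → Subgroup G := fun i => Subgroup.zpowers ((x * c ^ (i : ℕ) : D) : G)
    let e : ∀ i : Fin p, (fixedVec (Subgroup.zpowers (x : G)) : AddSubgroup V) → V := fun i v =>
      ((y ^ (i : ℕ) : D) : G) • (v : V)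
    have he : ∀ i v, e i v ∈ fixedVec (K i) := by
      intro i v g hg
      have h1 : ∀ g' ∈ Subgroup.zpowers (x : G), g' • (v : V) = v := v.2
      obtain ⟨n, rfl⟩ := Subgroup.mem_zpowers_iff.1 hg
      have h2 : ((x * c ^ (i : ℕ) : D) : G) ^ n * ((y ^ (i : ℕ) : D) : G) =
          ((y ^ (i : ℕ) : D) : G) * (x : G) ^ n := by
        rw [← hconj]
        simp only [Subgroup.coe_mul, Subgroup.coe_inv, conj_zpow]
        group
      show _ • e i v = e i v
      simp only [e, ← mul_smul, h2]
      rw [mul_smul, h1 _ (zpow_mem (Subgroup.mem_zpowers _) n)]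
    have hinj : Function.Injective (fun f : Fin p → (fixedVec (Subgroup.zpowers (x : G)) : AddSubgroup V) =>
        ∑ i, e i (f i)) := by
      intro f g hfg
      funext i
      have h0 : ∑ j, (e j (f j) - e j (g j)) = 0 := by
        rw [Finset.sum_sub_distrib]; exact sub_eq_zero.2 hfg
      have := eq_zero_of_sum_eq_zero hco Finset.univ K (fun j _ => ?_) (fun j _ l _ a ha b hb => ?_)
        (fun j _ l _ hjl u huj hul => ?_) (fun j => e j (f j) - e j (g j))
        (fun j _ => sub_mem (he j _) (he j _)) h0 i (Finset.mem_univ i)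
      · exact Subtype.ext (MulAction.injective _ (sub_eq_zero.1 this))
      · rw [IsPGroup.iff_card]
        exact (Nat.dvd_prime_pow hp.out).1 (show Nat.card (K j) ∣ p ^ 1 by
          rw [Nat.card_zpowers, pow_one]
          exact orderOf_dvd_of_pow_eq_one (hexp _ (x * c ^ (j : ℕ) : D).2)) |>.imp fun _ h => h.2
      · obtain ⟨n, rfl⟩ := Subgroup.mem_zpowers_iff.1 ha
        obtain ⟨n', rfl⟩ := Subgroup.mem_zpowers_iff.1 hb
        refine ((Commute.zpow_zpow ?_ n n').eq)
        exact Commute.map (show Commute (x * c ^ (j : ℕ)) (x * c ^ (l : ℕ)) from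
          (((Commute.refl x).mul_right (hxc.pow_right _)).mul_left
            ((hxc.symm.pow_left _).mul_right ((Commute.refl c).pow_pow _ _)))) D.subtype
      · have e1 := huj _ (Subgroup.mem_zpowers _)
        have e2 := hul _ (Subgroup.mem_zpowers _)
        have hne : (c ^ (j : ℕ))⁻¹ * c ^ (l : ℕ) ≠ 1 := fun h => hjl (by
          have hord : orderOf c = p := orderOf_eq_prime (Subtype.ext (hexp c c.2)) hc1
          refine Fin.ext (pow_injOn_Iio_orderOf (x := c) (by simp [hord, j.2]) (by simp [hord, l.2]) ?_)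
          exact inv_mul_eq_one.1 h)
        refine hsr _ (mul_mem (inv_mem (pow_mem hcc _)) (pow_mem hcc _)) hne u ?_
        have e3 : (((c ^ (j : ℕ))⁻¹ * c ^ (l : ℕ) : D) : G) =
            ((x * c ^ (j : ℕ) : D) : G)⁻¹ * ((x * c ^ (l : ℕ) : D) : G) := by
          simp only [Subgroup.coe_mul, Subgroup.coe_inv, SubgroupClass.coe_pow]; group
        rw [e3, mul_smul, e2, inv_smul_eq_iff, e1]
    have := Nat.card_le_card_of_injective _ hinj
    rwa [Nat.card_fun, Nat.card_eq_fintype_card (α := Fin p), Fintype.card_fin] at this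
  -- the count
  by_contra hcov
  push Not at hcov
  set N : Finset D := Finset.univ.filter (fun x => x ∉ Subgroup.center D) with hN
  obtain ⟨xm, hxm, hmax⟩ := Finset.exists_max_image N
    (fun x => Nat.card (fixedVec (Subgroup.zpowers (x : G)) : AddSubgroup V)) ⟨x0, by simp [hN, hx0]⟩
  set M := Nat.card (fixedVec (Subgroup.zpowers (xm : G)) : AddSubgroup V) with hMdef
  have hlow : (Finset.univ.erase (0 : V)).card * (p - 1) ≤
      ∑ v ∈ Finset.univ.erase (0 : V), (N.filter (fun x : D => (x : G) • v = v)).card := by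
    rw [← smul_eq_mul, ← Finset.sum_const]
    refine Finset.sum_le_sum fun v _ => ?_
    obtain ⟨x, hx, hxv⟩ := hcov v
    have hx1 : x ≠ 1 := fun h => hx (h ▸ one_mem _)
    have hord : orderOf x = p := orderOf_eq_prime (Subtype.ext (hexp x x.2)) hx1
    have hsub : (Finset.Icc 1 (p - 1)).image (fun i => x ^ i) ⊆ N.filter (fun y : D => (y : G) • v = v) := by
      intro y hy
      obtain ⟨i, hi, rfl⟩ := Finset.mem_image.1 hy
      rw [Finset.mem_Icc] at hi
      refine Finset.mem_filter.2 ⟨Finset.mem_filter.2 ⟨Finset.mem_univ _, fun hc' => hx ?_⟩, ?_⟩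
      · obtain ⟨j, hj⟩ := exists_pow_eq_self_of_coprime (x := x) (n := i) (by
          rw [hord]
          exact ((hp.out.coprime_iff_not_dvd).2 fun h => by
            have := Nat.le_of_dvd hi.1 h; omega).symm)
        exact hj ▸ pow_mem hc' j
      · rw [SubgroupClass.coe_pow]
        exact (MulAction.mem_stabilizer_iff.1 (pow_mem (MulAction.mem_stabilizer_iff.2 hxv :
          (x : G) ∈ MulAction.stabilizer G v) i))
    refine le_trans ?_ (Finset.card_le_card hsub)
    rw [Finset.card_image_of_injOn ((pow_injOn_Iio_orderOf (x := x)).mono fun i hi => by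
      simp only [Finset.coe_Icc, Set.mem_Icc] at hi
      simp only [Set.mem_Iio, hord]
      omega), Nat.card_Icc]
    omega
  have hup : ∑ v ∈ Finset.univ.erase (0 : V), (N.filter (fun x : D => (x : G) • v = v)).card ≤
      Nat.card D * (M - 1) := by
    simp only [Finset.card_filter]
    rw [Finset.sum_comm]
    simp only [← Finset.card_filter]
    refine le_trans (Finset.sum_le_card_nsmul _ _ (M - 1) fun x hx => ?_) ?_
    · refine le_trans ?_ (Nat.sub_le_sub_right (hmax x hx) 1)
      rw [Finset.filter_erase, Finset.card_erase_of_mem (by simp)]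
      refine Nat.sub_le_sub_right ?_ 1
      rw [← Nat.card_eq_finsetCard]
      refine Nat.card_le_card_of_injective (fun v => ⟨v.1, fun g hg => ?_⟩) fun a b h =>
        Subtype.ext (congrArg (fun t => t.1) h)
      have hv := (Finset.mem_filter.1 v.2).2
      exact MulAction.mem_stabilizer_iff.1 ((Subgroup.zpowers_le.2
        (MulAction.mem_stabilizer_iff.2 hv : (x : G) ∈ MulAction.stabilizer G v.1)) hg)
    · rw [smul_eq_mul, Nat.card_eq_fintype_card (α := D)]
      exact Nat.mul_le_mul_right _ (Finset.card_le_univ _)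
  have hkey := hlow.trans hup
  rw [Finset.card_erase_of_mem (Finset.mem_univ _), Finset.card_univ, ← Nat.card_eq_fintype_card] at hkey
  set X := Nat.card V with hXdef
  have hMp : M ^ p ≤ X := hM xm (Finset.mem_filter.1 hxm).2
  have hM1 : 1 ≤ M := Nat.card_pos
  have hX1 : 1 ≤ X := Nat.card_pos
  have hlt : (p - 1) * X < Nat.card D * M := by
    have h1 : p ≤ Nat.card D := by
      rw [hm]; exact Nat.le_self_pow (by omega) p
    have h2 := Nat.mul_sub_left_distrib (Nat.card D) M 1
    have h3 := Nat.mul_sub_right_distrib X 1 (p - 1)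
    have h4 : Nat.card D * 1 ≤ Nat.card D * M := Nat.mul_le_mul_left _ hM1
    have h5 : (p - 1) * X = X * (p - 1) := mul_comm _ _
    have := hp.out.two_le
    omega
  have hpow : ((p - 1) * X) ^ p < Nat.card D ^ p * X :=
    lt_of_lt_of_le (Nat.pow_lt_pow_left hlt hp.out.ne_zero)
      (by rw [mul_pow]; exact Nat.mul_le_mul_left _ hMp)
  have h3 : 3 ≤ p := by have := hp.out.two_le; omega
  have hfinal : Nat.card D ^ p * X ≤ ((p - 1) * X) ^ p := by
    rw [hm, mul_pow]
    calc (p ^ (2 * (w + 1) + 1)) ^ p * X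
        ≤ ((p - 1) * (p + 1) ^ (p ^ w * (p - 1))) ^ p * X :=
          Nat.mul_le_mul_right _ (Nat.pow_le_pow_left (pow_lt_fermat h3 w).le _)
      _ = (p - 1) ^ p * (((p + 1) ^ p ^ (w + 1)) ^ (p - 1) * X) := by
          rw [mul_pow, mul_assoc, ← pow_mul, ← pow_mul, pow_succ]; ring_nf
      _ ≤ (p - 1) ^ p * (X ^ (p - 1) * X) :=
          Nat.mul_le_mul_left _ (Nat.mul_le_mul_right _ (Nat.pow_le_pow_left hX _))
      _ = (p - 1) ^ p * X ^ p := by rw [← pow_succ, Nat.sub_add_cancel hp.out.pos]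
  exact absurd hfinal (not_le.2 hpow)

end Cfsg.Agent.H25.FixedVector
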