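import Mathlib.GroupTheory.PGroup
import Mathlib.GroupTheory.GroupAction.ConjAct
import Mathlib.Algebra.Group.Subgroup.Finite
import Mathlib.GroupTheory.GroupAction.SubMulAction
import Mathlib.GroupTheory.Commutator.Basic
import Mathlib.GroupTheory.OrderOfElement

/-!
Fixed spaces of commuting subgroups in a coprime action on a finite abelian group.
-/

set_option autoImplicit false
set_option linter.style.haveILetI false
set_option linter.unusedSectionVars false

namespace Cfsg.Agent.H25.FixedVector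

variable {G V : Type*} [Group G] [Finite G] [AddCommGroup V] [DistribMulAction G V]

/-- The vectors fixed by a subgroup. -/
def fixedVec (K : Subgroup G) : AddSubgroup V where
  carrier := {v | ∀ k ∈ K, k • v = v}
  zero_mem' _ _ := smul_zero _
  add_mem' ha hb k hk := by rw [smul_add, ha k hk, hb k hk]
  neg_mem' ha k hk := by rw [smul_neg, ha k hk]

@[simp] theorem mem_fixedVec {K : Subgroup G} {v : V} : v ∈ fixedVec K ↔ ∀ k ∈ K, k • v = v := Iff.rfl

/-- The sum of the translates by a subgroup. -/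
noncomputable def avg (K : Subgroup G) : V →+ V :=
  haveI := Fintype.ofFinite K
  ∑ k : K, DistribSMul.toAddMonoidHom V (k : G)

theorem avg_apply (K : Subgroup G) [Fintype K] (v : V) : avg K v = ∑ k : K, (k : G) • v := by
  simp only [avg, AddMonoidHom.finsetSum_apply, DistribSMul.toAddMonoidHom_apply]
  congr
  · exact Subsingleton.elim _ _

theorem avg_mem (K : Subgroup G) (v : V) : avg K v ∈ fixedVec K := by
  classical
  haveI := Fintype.ofFinite K
  intro k hk
  rw [avg_apply, Finset.smul_sum]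
  refine Fintype.sum_equiv (Equiv.mulLeft (⟨k, hk⟩ : K)) _ _ fun j => ?_
  simp [mul_smul]

theorem avg_of_mem {K : Subgroup G} {v : V} (h : v ∈ fixedVec K) : avg K v = Nat.card K • v := by
  classical
  haveI := Fintype.ofFinite K
  rw [avg_apply, Finset.sum_congr rfl fun (k : K) _ => h k k.2, Finset.sum_const, Finset.card_univ,
    Nat.card_eq_fintype_card]

theorem avg_mem_of_comm {K K' : Subgroup G} (hc : ∀ x ∈ K, ∀ y ∈ K', x * y = y * x) {v : V}
    (h : v ∈ fixedVec K') : avg K v ∈ fixedVec K' := by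
  classical
  haveI := Fintype.ofFinite K
  intro k hk
  rw [avg_apply, Finset.smul_sum]
  refine Finset.sum_congr rfl fun j _ => ?_
  rw [← mul_smul, ← hc j j.2 k hk, mul_smul, h k hk]

theorem eq_zero_of_nsmul {n : ℕ} (hn : n.Coprime (Nat.card V)) [Finite V] {v : V} (h : n • v = 0) :
    v = 0 :=
  AddMonoid.addOrderOf_eq_one_iff.1 (Nat.eq_one_of_dvd_coprimes hn
    (addOrderOf_dvd_iff_nsmul_eq_zero.2 h) (addOrderOf_dvd_natCard v))

theorem coprime_card {p : ℕ} [Fact p.Prime] (hco : p.Coprime (Nat.card V)) {K : Subgroup G}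
    (hK : IsPGroup p K) : (Nat.card K).Coprime (Nat.card V) := by
  obtain ⟨m, hm⟩ := IsPGroup.iff_card.1 hK
  rw [hm]
  exact hco.pow_left m

/-- Fixed spaces of commuting `p`-subgroups, pairwise meeting only in zero, are independent. -/
theorem eq_zero_of_sum_eq_zero [Finite V] {p : ℕ} [Fact p.Prime] (hco : p.Coprime (Nat.card V))
    {ι : Type*} (s : Finset ι) (K : ι → Subgroup G) (hp : ∀ i ∈ s, IsPGroup p (K i))
    (hcomm : ∀ i ∈ s, ∀ j ∈ s, ∀ x ∈ K i, ∀ y ∈ K j, x * y = y * x)
    (hdisj : ∀ i ∈ s, ∀ j ∈ s, i ≠ j → ∀ v : V, v ∈ fixedVec (K i) → v ∈ fixedVec (K j) → v = 0)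
    (v : ι → V) (hv : ∀ i ∈ s, v i ∈ fixedVec (K i)) (hsum : ∑ i ∈ s, v i = 0) :
    ∀ i ∈ s, v i = 0 := by
  intro i hi
  have h := congrArg (avg (K i)) hsum
  rw [map_sum, map_zero, Finset.sum_eq_single i (fun j hj hji => hdisj i hi j hj (Ne.symm hji) _
    (avg_mem _ _) (avg_mem_of_comm (fun x hx y hy => hcomm i hi j hj x hx y hy) (hv j hj)))
    (fun hc => absurd hi hc), avg_of_mem (hv i hi)] at h
  exact eq_zero_of_nsmul (coprime_card hco (hp i hi)) h

theorem fixedVec_eq_bot_of_semiregular {B : Subgroup G} (hsr : ∀ b ∈ B, b ≠ 1 → ∀ v : V, b • v = v → v = 0)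
    {b : G} (hb : b ∈ B) (hb1 : b ≠ 1) {v : V} (hv : v ∈ fixedVec (Subgroup.zpowers b)) : v = 0 :=
  hsr b hb hb1 v (hv b (Subgroup.mem_zpowers b))

/-- A semiregular abelian group of exponent `p` has order at most `p`. -/
theorem mem_zpowers_of_semiregular [Finite V] [Nontrivial V] {p : ℕ} [hp : Fact p.Prime]
    (hco : p.Coprime (Nat.card V)) {B : Subgroup G} (hexp : ∀ b ∈ B, b ^ p = 1)
    (hcomm : ∀ x ∈ B, ∀ y ∈ B, x * y = y * x)
    (hsr : ∀ b ∈ B, b ≠ 1 → ∀ v : V, b • v = v → v = 0) {a b : G} (ha : a ∈ B) (hb : b ∈ B)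
    (hb1 : b ≠ 1) : a ∈ Subgroup.zpowers b := by
  classical
  by_contra hab
  obtain ⟨v, hv⟩ := exists_ne (0 : V)
  -- every line of the plane spanned by `a` and `b` averages `v` to zero
  have line : ∀ x ∈ B, x ≠ 1 → ∀ w : V, ∑ i ∈ Finset.range p, x ^ i • w = 0 := by
    intro x hx hx1 w
    refine hsr x hx hx1 _ ?_
    have hsucc : ∑ i ∈ Finset.range p, x ^ (i + 1) • w = ∑ i ∈ Finset.range p, x ^ i • w := by
      have h1 := Finset.sum_range_succ' (fun i => x ^ i • w) p
      have h2 := Finset.sum_range_succ (fun i => x ^ i • w) p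
      rw [h2, hexp x hx, pow_zero] at h1
      exact (add_right_cancel h1).symm
    rw [Finset.smul_sum]
    simpa [← mul_smul, ← pow_succ'] using hsucc
  have hne : ∀ i : ℕ, a * b ^ i ≠ 1 := fun i h => hab (by
    rw [eq_inv_of_mul_eq_one_left h]
    exact inv_mem (pow_mem (Subgroup.mem_zpowers b) i))
  have h1 : ∑ j ∈ Finset.range p, ∑ i ∈ Finset.range p, (a * b ^ i) ^ j • v = 0 := by
    rw [Finset.sum_comm]
    exact Finset.sum_eq_zero fun i _ => line _ (B.mul_mem ha (B.pow_mem hb i)) (hne i) v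
  have h2 : ∀ j ∈ Finset.range p, ∑ i ∈ Finset.range p, (a * b ^ i) ^ j • v = if j = 0 then p • v else 0 := by
    intro j hj
    split_ifs with h0
    · simp [h0]
    · have hcab : Commute a b := hcomm a ha b hb
      have hbj : b ^ j ≠ 1 := fun h => by
        have := orderOf_dvd_of_pow_eq_one h
        rw [orderOf_eq_prime (hexp b hb) hb1] at this
        exact absurd (Nat.le_of_dvd (Nat.pos_of_ne_zero h0) this) (not_le.2 (Finset.mem_range.1 hj))
      rw [← line (b ^ j) (B.pow_mem hb j) hbj (a ^ j • v)]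
      refine Finset.sum_congr rfl fun i _ => ?_
      rw [(hcab.pow_right i).mul_pow, ← pow_mul, ← pow_mul, mul_comm i j, ← mul_smul,
        (hcab.pow_pow j (j * i)).eq]
  rw [Finset.sum_congr rfl h2, Finset.sum_ite_eq' (Finset.range p) 0 (fun _ => p • v),
    if_pos (Finset.mem_range.2 hp.out.pos)] at h1
  exact hv (eq_zero_of_nsmul hco h1)

end Cfsg.Agent.H25.FixedVector
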