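import Mathlib.GroupTheory.PGroup
import Mathlib.GroupTheory.GroupAction.Basic
import Mathlib.Algebra.Group.Action.Pointwise.Finset
import Cfsg.Agent.PGroups.Basic

/-!
A `p`-group of odd order acting on a finite set fixes some subset only with elements acting trivially.
-/

set_option autoImplicit false
set_option linter.style.haveILetI false

namespace Cfsg.Agent.H25.FixedVector

open scoped Pointwise
open MulAction

variable {p : ℕ} [hp : Fact p.Prime]

/-- For an odd prime `p`, every invariant finite set contains a subset whose setwise stabiliser in a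
`p`-group is the kernel of the action on that set. -/
theorem exists_subset_stabilizer {G α : Type*} [Group G] [Finite G] [MulAction G α] [DecidableEq α]
    (hp2 : p ≠ 2) (n : ℕ) : ∀ (Q : Subgroup G), IsPGroup p Q → ∀ S : Finset α, S.card ≤ n →
      (∀ x ∈ Q, x • S = S) → ∃ D ⊆ S, ∀ x ∈ Q, x • D = D → ∀ a ∈ S, x • a = a := by
  induction n using Nat.strong_induction_on with
  | _ n ih =>
  intro Q hQ S hS hinv
  classical
  by_cases htriv : ∀ x ∈ Q, ∀ a ∈ S, x • a = a
  · exact ⟨∅, Finset.empty_subset _, fun x hx _ => htriv x hx⟩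
  push Not at htriv
  obtain ⟨x0, hx0, o, ho, hxo⟩ := htriv
  set O : Finset α := S.filter (fun b => ∃ x ∈ Q, x • o = b) with hO
  have hmemS : ∀ x ∈ Q, ∀ a ∈ S, x • a ∈ S := fun x hx a ha => by
    rw [← hinv x hx]; exact Finset.smul_mem_smul_finset ha
  have hoO : o ∈ O := Finset.mem_filter.2 ⟨ho, 1, Q.one_mem, one_smul _ _⟩
  have hOinv : ∀ x ∈ Q, x • O = O := by
    have hle : ∀ x ∈ Q, ∀ b ∈ O, x • b ∈ O := by
      intro x hx b hb
      obtain ⟨hbS, y, hy, rfl⟩ := Finset.mem_filter.1 hb
      exact Finset.mem_filter.2 ⟨hmemS x hx _ hbS, x * y, Q.mul_mem hx hy, mul_smul _ _ _⟩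
    intro x hx
    refine Finset.eq_of_subset_of_card_le ?_ (by rw [Finset.card_smul_finset])
    intro b hb
    obtain ⟨c, hc, rfl⟩ := Finset.mem_smul_finset.1 hb
    exact hle x hx c hc
  by_cases hOS : O = S
  swap
  · have hlt : O.card < n := lt_of_lt_of_le
      (Finset.card_lt_card ((Finset.filter_subset _ _).ssubset_of_ne hOS)) hS
    have hlt' : (S \ O).card < n := lt_of_lt_of_le
      (Finset.card_lt_card (Finset.sdiff_ssubset (Finset.filter_subset _ _) ⟨o, hoO⟩)) hS
    obtain ⟨D1, hD1, h1⟩ := ih _ hlt Q hQ O le_rfl hOinv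
    obtain ⟨D2, hD2, h2⟩ := ih _ hlt' Q hQ (S \ O) le_rfl fun x hx => by
      rw [Finset.smul_finset_sdiff, hinv x hx, hOinv x hx]
    refine ⟨D1 ∪ D2, Finset.union_subset (hD1.trans (Finset.filter_subset _ _))
      (hD2.trans Finset.sdiff_subset), fun x hx hfix a ha => ?_⟩
    have e1 : (D1 ∪ D2) ∩ O = D1 := by
      ext b
      simp only [Finset.mem_inter, Finset.mem_union]
      constructor
      · rintro ⟨hb | hb, hbO⟩
        · exact hb
        · exact absurd hbO (Finset.mem_sdiff.1 (hD2 hb)).2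
      · exact fun hb => ⟨Or.inl hb, hD1 hb⟩
    have e2 : (D1 ∪ D2) \ O = D2 := by
      ext b
      simp only [Finset.mem_sdiff, Finset.mem_union]
      constructor
      · rintro ⟨hb | hb, hbO⟩
        · exact absurd (hD1 hb) hbO
        · exact hb
      · exact fun hb => ⟨Or.inr hb, (Finset.mem_sdiff.1 (hD2 hb)).2⟩
    by_cases haO : a ∈ O
    · exact h1 x hx (by rw [← e1, Finset.smul_finset_inter, hfix, hOinv x hx]) a haO
    · exact h2 x hx (by rw [← e2, Finset.smul_finset_sdiff, hfix, hOinv x hx]) a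
        (Finset.mem_sdiff.2 ⟨ha, haO⟩)
  -- the transitive case: a maximal subgroup over the point stabiliser gives `p` blocks
  have horb : ∀ b ∈ S, ∃ x ∈ Q, x • o = b := fun b hb => by
    rw [← hOS] at hb; exact (Finset.mem_filter.1 hb).2
  set H : Subgroup Q := stabilizer Q o with hH
  have hHtop : H ≠ ⊤ := fun h => hxo (mem_stabilizer_iff.1 (h ▸ Subgroup.mem_top (⟨x0, hx0⟩ : Q) : (⟨x0, hx0⟩ : Q) ∈ H))
  obtain ⟨M, hHM, hM⟩ : ∃ M : Subgroup Q, H ≤ M ∧ IsCoatom M :=
    (eq_top_or_exists_le_coatom H).resolve_left hHtop |>.imp fun M hM => ⟨hM.2, hM.1⟩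
  haveI hMn : M.Normal := Cfsg.Agent.PGroups.normal_of_isCoatom hQ hM
  set B : Finset α := S.filter (fun b => ∃ m ∈ M, ((m : Q) : G) • o = b) with hB
  have hoB : o ∈ B := Finset.mem_filter.2 ⟨ho, 1, M.one_mem, by simp⟩
  have hMB : ∀ m ∈ M.map Q.subtype, m • B = B := by
    rintro _ ⟨m, hm, rfl⟩
    refine Finset.eq_of_subset_of_card_le ?_ (by rw [Finset.card_smul_finset])
    intro b hb
    obtain ⟨c, hc, rfl⟩ := Finset.mem_smul_finset.1 hb
    obtain ⟨hcS, k, hk, rfl⟩ := Finset.mem_filter.1 hc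
    exact Finset.mem_filter.2 ⟨hmemS _ m.2 _ hcS, m * k, M.mul_mem hm hk, by simp [mul_smul]⟩
  have hmem : ∀ t : Q, (∃ b ∈ B, (t : G) • b ∈ B) → t ∈ M := by
    rintro t ⟨b, hb, htb⟩
    obtain ⟨-, k, hk, rfl⟩ := Finset.mem_filter.1 hb
    obtain ⟨-, l, hl, hlt⟩ := Finset.mem_filter.1 htb
    have : l⁻¹ * t * k ∈ H := mem_stabilizer_iff.2 (by
      show ((l⁻¹ * t * k : Q) : G) • o = o
      simp [mul_smul, ← hlt])
    have h2 := M.mul_mem (M.mul_mem hl (hHM this)) (M.inv_mem hk)
    simpa [mul_assoc] using h2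
  have hBS : B ⊂ S := by
    refine (Finset.filter_subset _ _).ssubset_of_ne fun h => hM.1 ((Subgroup.eq_top_iff' M).2 fun t => ?_)
    have hto : (t : G) • o ∈ B := by
      rw [show B = S from h]
      exact hmemS _ t.2 _ ho
    exact hmem t ⟨o, hoB, hto⟩
  obtain ⟨D1, hD1, h1⟩ := ih _ (lt_of_lt_of_le (Finset.card_lt_card hBS) hS) (M.map Q.subtype)
    (hQ.to_le (Subgroup.map_subtype_le M)) B le_rfl hMB
  have hBodd : Odd B.card := by
    haveI : Finite (orbit M o) := Set.finite_coe_iff.2 (Set.finite_range fun m : M => m • o)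
    obtain ⟨k, hk⟩ := (hQ.to_subgroup M).card_orbit o
    have e : Nat.card (orbit M o) = B.card := by
      rw [Nat.card_coe_set_eq]
      have : (B : Set α) = orbit M o := by
        ext b
        constructor
        · intro hb
          obtain ⟨-, m, hm, rfl⟩ := Finset.mem_filter.1 (Finset.mem_coe.1 hb)
          exact ⟨⟨m, hm⟩, rfl⟩
        · rintro ⟨m, rfl⟩
          exact Finset.mem_coe.2 (Finset.mem_filter.2 ⟨hmemS _ m.1.2 _ ho, m.1, m.2, rfl⟩)
      rw [← this, Set.ncard_coe_finset]
    rw [← e, hk]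
    exact (hp.out.odd_of_ne_two hp2).pow
  -- the subset: `D1` on the block of `o`, translates of its complement elsewhere
  have hblock : ∀ b ∈ S, ∃ t : Q, ∃ c ∈ B, (t : G) • c = b := fun b hb => by
    obtain ⟨t, ht, rfl⟩ := horb b hb
    exact ⟨⟨t, ht⟩, o, hoB, rfl⟩
  let rep : Q ⧸ M → Q := fun q => if q = 1 then 1 else q.out
  have hrep : ∀ q, QuotientGroup.mk (rep q) = q := fun q => by
    by_cases h : q = 1
    · simp [rep, h]
    · simp [rep, h]
  haveI : Fintype (Q ⧸ M) := Fintype.ofFinite _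
  let piece : Q ⧸ M → Finset α := fun q => (rep q : G) • (if q = 1 then D1 else B \ D1)
  refine ⟨Finset.univ.biUnion piece, ?_, fun x hx hfix a ha => ?_⟩
  · intro b hb
    obtain ⟨q, -, hb⟩ := Finset.mem_biUnion.1 hb
    obtain ⟨c, hc, rfl⟩ := Finset.mem_smul_finset.1 hb
    refine hmemS _ (rep q).2 _ (Finset.filter_subset (fun b => ∃ m ∈ M, ((m : Q) : G) • o = b) S ?_)
    split_ifs at hc
    exacts [hD1 hc, Finset.sdiff_subset hc]
  set D := Finset.univ.biUnion piece with hD
  have hinter : ∀ q : Q ⧸ M, D ∩ (rep q : G) • B = piece q := by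
    intro q
    ext b
    constructor
    · intro hb
      obtain ⟨hbD, hbB⟩ := Finset.mem_inter.1 hb
      obtain ⟨r, -, hbr⟩ := Finset.mem_biUnion.1 hbD
      suffices r = q by rwa [this] at hbr
      obtain ⟨c, hc, rfl⟩ := Finset.mem_smul_finset.1 hbr
      obtain ⟨d, hd, hdc⟩ := Finset.mem_smul_finset.1 hbB
      have hcB : c ∈ B := by
        split_ifs at hc
        exacts [hD1 hc, Finset.sdiff_subset hc]
      have hm : (rep q)⁻¹ * rep r ∈ M := hmem _ ⟨c, hcB, by simpa [mul_smul, ← hdc] using hd⟩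
      rw [← hrep r, ← hrep q, eq_comm]
      exact QuotientGroup.eq.2 hm
    · intro hb
      refine Finset.mem_inter.2 ⟨Finset.mem_biUnion.2 ⟨q, Finset.mem_univ _, hb⟩, ?_⟩
      refine Finset.smul_finset_subset_smul_finset ?_ hb
      split_ifs
      exacts [hD1, Finset.sdiff_subset]
  set xq : Q := ⟨x, hx⟩
  have hxM : xq ∈ M := by
    by_contra hxM
    set q : Q ⧸ M := QuotientGroup.mk xq with hq
    have hq1 : q ≠ 1 := fun h => hxM ((QuotientGroup.eq_one_iff xq).1 h)
    have hr1 : rep 1 = 1 := by simp [rep]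
    have e : x • B = (rep q : G) • B := by
      have hm : (rep q)⁻¹ * xq ∈ M := QuotientGroup.eq.1 (hrep q)
      have := hMB _ (Subgroup.mem_map_of_mem Q.subtype hm)
      conv_rhs => rw [← this]
      simp [← mul_smul, xq]
    have h2 : x • piece 1 = piece q := by
      rw [← hinter q, ← e, ← hinter 1, hr1]
      simp [Finset.smul_finset_inter, hfix]
    have h3 := congrArg Finset.card h2
    simp only [piece, hr1, if_pos, if_neg hq1, Finset.card_smul_finset, Finset.card_sdiff_of_subset hD1] at h3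
    have := Finset.card_le_card hD1
    obtain ⟨k, hk⟩ := hBodd
    omega
  obtain ⟨t, c, hc, rfl⟩ := hblock a ha
  set q : Q ⧸ M := QuotientGroup.mk t with hq
  have hm : (rep q)⁻¹ * t ∈ M := QuotientGroup.eq.1 (hrep q)
  set d : α := (((rep q)⁻¹ * t : Q) : G) • c with hd
  have hdB : d ∈ B := by
    rw [← hMB _ (Subgroup.mem_map_of_mem Q.subtype hm)]
    exact Finset.smul_mem_smul_finset hc
  have htc : (t : G) • c = (rep q : G) • d := by simp [hd, ← mul_smul]
  set y : Q := (rep q)⁻¹ * xq * rep q with hy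
  have hyM : y ∈ M := by
    have := hMn.conj_mem _ hxM (rep q)⁻¹
    simpa using this
  have hpq : x • piece q = piece q := by
    have hxB : x • (rep q : G) • B = (rep q : G) • B := by
      conv_rhs => rw [← hMB _ (Subgroup.mem_map_of_mem Q.subtype hyM)]
      simp [hy, xq, ← mul_smul, mul_assoc]
    conv_rhs => rw [← hinter q]
    rw [← hinter q, Finset.smul_finset_inter, hfix, hxB]
  have hyfix : (y : G) • D1 = D1 := by
    have h4 : (y : G) • (if q = 1 then D1 else B \ D1) = (if q = 1 then D1 else B \ D1) := by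
      refine MulAction.injective (rep q : G) ?_
      show (rep q : G) • (y : G) • _ = (rep q : G) • _
      rw [← mul_smul]
      have : ((rep q : Q) : G) * (y : G) = x * (rep q : G) := by simp [hy, xq, mul_assoc]
      rw [this, mul_smul]
      exact hpq
    split_ifs at h4 with h
    · exact h4
    · rw [Finset.smul_finset_sdiff, show (y : G) • B = B from hMB _ (Subgroup.mem_map_of_mem Q.subtype hyM)] at h4
      have h5 := congrArg (fun T => B \ T) h4
      have h6 : (y : G) • D1 ⊆ B := by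
        rw [← show (y : G) • B = B from hMB _ (Subgroup.mem_map_of_mem Q.subtype hyM)]
        exact Finset.smul_finset_subset_smul_finset hD1
      simpa [Finset.sdiff_sdiff_eq_self hD1, Finset.sdiff_sdiff_eq_self h6] using h5
  have hyd := h1 _ (Subgroup.mem_map_of_mem Q.subtype hyM) hyfix d hdB
  rw [htc, ← mul_smul]
  have : x * (rep q : G) = (rep q : G) * (y : G) := by simp [hy, xq, mul_assoc]
  rw [this, mul_smul]
  exact congrArg _ hyd

end Cfsg.Agent.H25.FixedVector
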