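import Cfsg.Agent.H25.FixedVector.Primitive
import Cfsg.Agent.H25.FixedVector.Subsets
import Mathlib.GroupTheory.QuotientGroup.Basic

/-!
For a normal `p`-subgroup `P`, `p` odd, of a group acting on a finite abelian group of order prime to `p`,
every element of `P` acting non-trivially moves some vector together with all its conjugates.
-/

set_option autoImplicit false
set_option linter.style.haveILetI false
set_option linter.unusedSectionVars false

namespace Cfsg.Agent.H25.FixedVector

universe u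

open scoped Pointwise

variable {p : ℕ} [hp : Fact p.Prime]

/-- The reduction step: the property for all smaller modules gives it for an irreducible faithful one. -/
theorem exists_moved_irreducible (hp2 : p ≠ 2) {G V : Type u} [Group G] [Finite G] [AddCommGroup V]
    [Finite V] [DistribMulAction G V]
    (ih : ∀ (H W : Type u) [Group H] [Finite H] [AddCommGroup W] [Finite W] [DistribMulAction H W],
      Nat.card W < Nat.card V → p.Coprime (Nat.card W) → ∀ (P : Subgroup H), P.Normal → IsPGroup p P →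
      ∀ a ∈ P, (∀ w : W, a ^ p • w = w) → (∃ w : W, a • w ≠ w) → ∃ w : W, ∀ g : H, (g * a * g⁻¹) • w ≠ w)
    (hco : p.Coprime (Nat.card V))
    (hfaith : ∀ g : G, (∀ v : V, g • v = v) → g = 1)
    (hirr : ∀ U : AddSubgroup V, (∀ g : G, ∀ u ∈ U, g • u ∈ U) → U = ⊥ ∨ U = ⊤)
    (P : Subgroup G) (hPn : P.Normal) (hP : IsPGroup p P) {a : G} (ha : a ∈ P)
    (hap : ∀ v : V, a ^ p • v = v) (hmov : ∃ v : V, a • v ≠ v) :
    ∃ v : V, ∀ g : G, (g * a * g⁻¹) • v ≠ v := by
  classical
  haveI := hPn
  obtain ⟨v0, hv0⟩ := hmov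
  haveI : Nontrivial V := ⟨⟨_, _, hv0⟩⟩
  have ha1 : a ≠ 1 := fun h => hv0 (by rw [h, one_smul])
  have hap' : a ^ p = 1 := hfaith _ hap
  -- the module is elementary abelian
  obtain ⟨r, hr, hrd⟩ := Nat.exists_prime_and_dvd (Finite.one_lt_card (α := V)).ne'
  haveI : Fact r.Prime := ⟨hr⟩
  have hpr : p ≠ r := fun h => hp.out.one_lt.ne' (Nat.eq_one_of_dvd_coprimes hco dvd_rfl (h ▸ hrd))
  have hr0 : ∀ v : V, r • v = 0 := by
    let U : AddSubgroup V := (nsmulAddMonoidHom r : V →+ V).ker
    obtain ⟨w, hw⟩ := exists_prime_addOrderOf_dvd_card' r hrd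
    have hwU : w ∈ U := by
      show r • w = 0
      rw [← hw]; exact addOrderOf_nsmul_eq_zero w
    rcases hirr U (fun g u hu => by
      show r • g • u = 0
      rw [show r • g • u = g • r • u from (map_nsmul (DistribSMul.toAddMonoidHom V g) r u).symm, show r • u = 0 from hu, smul_zero]) with h | h
    · rw [h, AddSubgroup.mem_bot] at hwU
      rw [hwU, addOrderOf_zero] at hw
      exact absurd hw hr.one_lt.ne
    · exact fun v => (h ▸ AddSubgroup.mem_top v : v ∈ U)
  by_cases hprim : ∀ B : Subgroup G, B.Normal → B ≤ P → (∀ x ∈ B, ∀ y ∈ B, x * y = y * x) →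
      ∀ b ∈ B, b ≠ 1 → ∀ v : V, b • v = v → v = 0
  · exact exists_moved_primitive hp2 hpr hr0 P hP hprim ha hap' ha1
  push Not at hprim
  obtain ⟨B, hBn, hBP, hBab, b, hb, hb1, v1, hv1, hv10⟩ := hprim
  haveI := hBn
  letI : MulAction G (Subgroup G) := MulAction.compHom (Subgroup G) (MulAut.conj : G →* MulAut G)
  have hsmul : ∀ (g x : G) (K : Subgroup G), x ∈ g • K ↔ g⁻¹ * x * g ∈ K := by
    intro g x K
    show x ∈ MulAut.conj g • K ↔ _
    rw [Subgroup.mem_pointwise_smul_iff_inv_smul_mem]
    simp [MulAut.smul_def]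
  haveI : Fintype (Subgroup G) := Fintype.ofFinite _
  let Q : Subgroup G → Prop := fun K => K ≤ B ∧ ∃ v : V, v ≠ 0 ∧ v ∈ fixedVec K
  set S : Finset (Subgroup G) := Finset.univ.filter (fun K => Maximal Q K) with hS
  have hmem : ∀ {K}, K ∈ S ↔ Maximal Q K := fun {K} => by simp [hS]
  have hQsmul : ∀ (g : G) (K : Subgroup G), Q K → Q (g • K) := by
    rintro g K ⟨hKB, v, hv, hvK⟩
    refine ⟨fun x hx => ?_, g • v, (smul_ne_zero_iff_ne g).2 hv, fun x hx => ?_⟩
    · have := hBn.conj_mem _ (hKB ((hsmul g x K).1 hx)) g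
      simpa [mul_assoc] using this
    · have h1 := hvK _ ((hsmul g x K).1 hx)
      rw [← mul_smul] at *
      have h2 := congrArg (g • ·) h1
      simpa [← mul_smul, mul_assoc] using h2
  have hle : ∀ (g : G) {K L : Subgroup G}, K ≤ L → g • K ≤ g • L := fun g K L h x hx =>
    (hsmul g x L).2 (h ((hsmul g x K).1 hx))
  have hSinv : ∀ (g : G) (K : Subgroup G), K ∈ S → g • K ∈ S := by
    intro g K hK
    obtain ⟨hQ, hmax⟩ := hmem.1 hK
    refine hmem.2 ⟨hQsmul g K hQ, fun L hL hgKL => ?_⟩
    have h1 := hle g⁻¹ hgKL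
    rw [inv_smul_smul] at h1
    have h2 := hle g (hmax (hQsmul g⁻¹ L hL) h1)
    rwa [smul_inv_smul] at h2
  have hfixsmul : ∀ (g : G) {K : Subgroup G} {v : V}, v ∈ fixedVec K → g • v ∈ fixedVec (g • K) := by
    intro g K v hv x hx
    have h1 := congrArg (g • ·) (hv _ ((hsmul g x K).1 hx))
    simpa [← mul_smul, mul_assoc] using h1
  have hBp : ∀ K ∈ S, IsPGroup p K := fun K hK => hP.to_le ((hmem.1 hK).1.1.trans hBP)
  have hindep : ∀ (T : Finset (Subgroup G)), T ⊆ S → ∀ f : Subgroup G → V, (∀ K ∈ T, f K ∈ fixedVec K) →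
      ∑ K ∈ T, f K = 0 → ∀ K ∈ T, f K = 0 := by
    intro T hT f hf hsum
    refine eq_zero_of_sum_eq_zero hco T id (fun K hK => hBp K (hT hK))
      (fun K hK L hL x hx y hy => hBab x ((hmem.1 (hT hK)).1.1 hx) y ((hmem.1 (hT hL)).1.1 hy))
      (fun K hK L hL hKL v hvK hvL => ?_) f hf hsum
    by_contra hv
    have hK' := hmem.1 (hT hK)
    have hL' := hmem.1 (hT hL)
    have hQ : Q (K ⊔ L) := ⟨sup_le hK'.1.1 hL'.1.1, v, hv, fun x hx => by
      have : K ⊔ L ≤ MulAction.stabilizer G v :=
        sup_le (fun k hk => hvK k hk) (fun k hk => hvL k hk)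
      exact this hx⟩
    exact hKL ((hK'.eq_of_le hQ le_sup_left).trans (hL'.eq_of_le hQ le_sup_right).symm)
  obtain ⟨Kb, hbK, hKb⟩ : ∃ Kb, Subgroup.zpowers b ≤ Kb ∧ Maximal Q Kb :=
    Finite.exists_le_maximal ⟨Subgroup.zpowers_le.2 hb, v1, hv10, fun x hx =>
      (Subgroup.zpowers_le.2 (show b ∈ MulAction.stabilizer G v1 from hv1)) hx⟩
  -- the blocks span
  let sumW : AddSubgroup V := ⨆ K ∈ S, fixedVec K
  have hspan : ∀ g : G, (∀ K ∈ S, ∀ v : V, v ∈ fixedVec K → g • v = v) → g = 1 := by
    intro g hg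
    refine hfaith g fun v => ?_
    rcases hirr sumW (fun h u hu => by
      have : sumW ≤ AddSubgroup.comap (DistribSMul.toAddMonoidHom V h) sumW := iSup₂_le fun K hK w hw =>
        (le_iSup₂ (f := fun K (_ : K ∈ S) => (fixedVec K : AddSubgroup V)) (h • K) (hSinv h K hK))
          (hfixsmul h hw)
      exact this hu) with h | h
    · exfalso
      obtain ⟨-, w, hw, hwK⟩ := hKb.1
      have : w ∈ sumW := (le_iSup₂ (f := fun K (_ : K ∈ S) => (fixedVec K : AddSubgroup V)) Kb (hmem.2 hKb)) hwK
      rw [h, AddSubgroup.mem_bot] at this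
      exact hw this
    · have hle' : sumW ≤ AddMonoidHom.eqLocus (DistribSMul.toAddMonoidHom V g) (AddMonoidHom.id V) :=
        iSup₂_le fun K hK w hw => hg K hK w hw
      exact hle' (h ▸ AddSubgroup.mem_top v)
  have hex : ∀ K ∈ S, ∃ w : V, w ≠ 0 ∧ w ∈ fixedVec K := fun K hK => (hmem.1 hK).1.2
  by_cases hker : ∀ K ∈ S, a • K = K
  swap
  · -- `a` permutes the blocks non-trivially
    obtain ⟨D, hDS, hD⟩ := exists_subset_stabilizer (α := Subgroup G) hp2 S.card P hP S le_rfl
      fun x _ => Finset.eq_of_subset_of_card_le (fun K hK => by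
        obtain ⟨L, hL, rfl⟩ := Finset.mem_smul_finset.1 hK
        exact hSinv x L hL) (by rw [Finset.card_smul_finset])
    choose! w hw0 hwK using hex
    refine ⟨∑ K ∈ D, w K, fun g hg => hker fun K hK => ?_⟩
    set a' := g * a * g⁻¹ with ha'
    have ha'P : a' ∈ P := hPn.conj_mem a ha g
    have hsub : a' • D ⊆ D := by
      intro K hK
      by_contra hKD
      let f : Subgroup G → V := fun L =>
        (if L ∈ a' • D then a' • w (a'⁻¹ • L) else 0) - (if L ∈ D then w L else 0)
      have hT : a' • D ∪ D ⊆ S := Finset.union_subset (fun L hL => by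
        obtain ⟨M, hM, rfl⟩ := Finset.mem_smul_finset.1 hL
        exact hSinv a' M (hDS hM)) hDS
      have hz := hindep _ hT f (fun L _ => sub_mem (by
          split_ifs with h
          · obtain ⟨M, hM, rfl⟩ := Finset.mem_smul_finset.1 h
            rw [inv_smul_smul]
            exact hfixsmul a' (hwK M (hDS hM))
          · exact zero_mem _) (by
          split_ifs with h
          · exact hwK L (hDS h)
          · exact zero_mem _)) (by
          have e : ∑ L ∈ a' • D, a' • w (a'⁻¹ • L) = a' • ∑ L ∈ D, w L := by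
            rw [Finset.smul_sum, ← Finset.image_smul, Finset.sum_image (fun x _ y _ h => MulAction.injective a' h)]
            exact Finset.sum_congr rfl fun L _ => by rw [inv_smul_smul]
          simp only [f, Finset.sum_sub_distrib, Finset.sum_ite_mem, Finset.union_inter_cancel_left,
            Finset.union_inter_cancel_right, e, hg, sub_self])
      have h1 := hz K (Finset.mem_union_left _ hK)
      simp only [f, if_pos hK, if_neg hKD, sub_zero, smul_eq_zero_iff_eq] at h1
      obtain ⟨M, hM, rfl⟩ := Finset.mem_smul_finset.1 hK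
      rw [inv_smul_smul] at h1
      exact hw0 M (hDS hM) h1
    have hfix := hD a' ha'P (Finset.eq_of_subset_of_card_le hsub (by rw [Finset.card_smul_finset]))
      (g • K) (hSinv g K hK)
    simp only [ha', mul_smul, inv_smul_smul, smul_left_cancel_iff] at hfix
    exact hfix
  -- `a` fixes every block
  obtain ⟨K0, hK0, hK0a⟩ : ∃ K ∈ S, ∃ v : V, v ∈ fixedVec K ∧ a • v ≠ v := by
    by_contra h
    push Not at h
    exact ha1 (hspan a h)
  have hW : (fixedVec K0 : AddSubgroup V) ≠ ⊤ := by
    intro h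
    have hbot : K0 = ⊥ := (Subgroup.eq_bot_iff_forall K0).2 fun k hk => hfaith k fun v =>
      (h ▸ AddSubgroup.mem_top v : v ∈ fixedVec K0) k hk
    have := (hmem.1 hK0).eq_of_le hKb.1 (hbot ▸ bot_le)
    rw [← this, hbot] at hbK
    exact hb1 (Subgroup.mem_bot.1 (hbK (Subgroup.mem_zpowers b)))
  set H : Subgroup G := MulAction.stabilizer G K0
  set W : AddSubgroup V := fixedVec K0
  have hWinv : ∀ h ∈ H, ∀ w ∈ W, h • w ∈ W := fun h hh w hw => by
    have := hfixsmul h (K := K0) hw
    rwa [MulAction.mem_stabilizer_iff.1 hh] at this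
  letI : DistribMulAction H W :=
    { smul := fun h w => ⟨(h : G) • (w : V), hWinv h h.2 w w.2⟩
      one_smul := fun w => Subtype.ext (one_smul G (w : V))
      mul_smul := fun x y w => Subtype.ext (mul_smul (x : G) (y : G) (w : V))
      smul_zero := fun x => Subtype.ext (smul_zero (x : G))
      smul_add := fun x v w => Subtype.ext (smul_add (x : G) (v : V) (w : V)) }
  have hcard : Nat.card W < Nat.card V :=
    lt_of_le_of_ne (AddSubgroup.card_le_card_addGroup W) fun h => hW (AddSubgroup.eq_top_of_card_eq W h)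
  have haH : a ∈ H := MulAction.mem_stabilizer_iff.2 (hker K0 hK0)
  obtain ⟨v, hv, hav⟩ := hK0a
  obtain ⟨w, hw⟩ := ih H W hcard (hco.coprime_dvd_right (AddSubgroup.card_addSubgroup_dvd_card W))
    (P.subgroupOf H) (hPn.comap _) (hP.comap_of_injective H.subtype H.subtype_injective) ⟨a, haH⟩ ha
    (fun x => Subtype.ext (hap (x : V))) ⟨⟨v, hv⟩, fun h => hav (congrArg Subtype.val h)⟩
  set O : Finset (Subgroup G) := S.filter (fun K => ∃ g : G, g • K0 = K) with hO
  have hrep : ∀ K ∈ O, ∃ g : G, g • K0 = K := fun K hK => (Finset.mem_filter.1 hK).2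
  choose! t ht using hrep
  refine ⟨∑ K ∈ O, t K • (w : V), fun g hg => ?_⟩
  set a' := g * a * g⁻¹ with ha'
  have hK1 : g • K0 ∈ O := Finset.mem_filter.2 ⟨hSinv g K0 hK0, g, rfl⟩
  have hfix : ∀ K ∈ S, a' • K = K := fun K hK => by
    rw [ha', mul_smul, mul_smul, hker _ (hSinv g⁻¹ K hK), smul_inv_smul]
  have hz := hindep O (Finset.filter_subset _ _) (fun K => a' • t K • (w : V) - t K • (w : V))
    (fun K hK => by
      have h1 : t K • (w : V) ∈ fixedVec K := by
        have := hfixsmul (t K) (K := K0) w.2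
        rwa [ht K hK] at this
      refine sub_mem ?_ h1
      have := hfixsmul a' h1
      rwa [hfix K (Finset.mem_filter.1 hK).1] at this)
    (by rw [Finset.sum_sub_distrib, ← Finset.smul_sum, hg, sub_self]) _ hK1
  set T := t (g • K0)
  have hh : T⁻¹ * g ∈ H := MulAction.mem_stabilizer_iff.2 (by rw [mul_smul, inv_smul_eq_iff, ht _ hK1])
  refine hw ⟨T⁻¹ * g, hh⟩ (Subtype.ext ?_)
  show (T⁻¹ * g * a * (T⁻¹ * g)⁻¹) • (w : V) = (w : V)
  rw [show T⁻¹ * g * a * (T⁻¹ * g)⁻¹ = T⁻¹ * (a' * T) by rw [ha']; group, mul_smul, mul_smul,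
    sub_eq_zero.1 hz, inv_smul_smul]

theorem exists_moved_aux (hp2 : p ≠ 2) (n : ℕ) : ∀ (G V : Type u) [Group G] [Finite G] [AddCommGroup V]
    [Finite V] [DistribMulAction G V], Nat.card V ≤ n → p.Coprime (Nat.card V) → ∀ (P : Subgroup G),
    P.Normal → IsPGroup p P → ∀ a ∈ P, (∀ v : V, a ^ p • v = v) → (∃ v : V, a • v ≠ v) →
      ∃ v : V, ∀ g : G, (g * a * g⁻¹) • v ≠ v := by
  induction n using Nat.strong_induction_on with
  | _ n ih =>
  intro G V _ _ _ _ _ hn hco P hPn hP a ha hap hmov
  classical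
  by_cases hirr : ∀ U : AddSubgroup V, (∀ g : G, ∀ u ∈ U, g • u ∈ U) → U = ⊥ ∨ U = ⊤
  · -- pass to the group induced on the module
    let f : G →* Equiv.Perm V := MulAction.toPermHom G V
    haveI : Finite f.range := Finite.of_surjective f.rangeRestrict f.rangeRestrict_surjective
    letI : DistribMulAction f.range V :=
      { smul := fun x v => (x : Equiv.Perm V) v
        one_smul := fun v => rfl
        mul_smul := fun x y v => rfl
        smul_zero := fun x => by
          obtain ⟨g, hg⟩ := x.2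
          show (x : Equiv.Perm V) 0 = 0
          rw [← hg]; exact smul_zero g
        smul_add := fun x v w => by
          obtain ⟨g, hg⟩ := x.2
          show (x : Equiv.Perm V) (v + w) = (x : Equiv.Perm V) v + (x : Equiv.Perm V) w
          rw [← hg]; exact smul_add g v w }
    have hsm : ∀ (g : G) (v : V), f.rangeRestrict g • v = g • v := fun _ _ => rfl
    obtain ⟨v, hv⟩ := exists_moved_irreducible (G := f.range) (V := V) hp2
      (fun H W _ _ _ _ _ hW hc => ih _ (lt_of_lt_of_le hW hn) H W le_rfl hc) hco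
      (fun g hg => Subtype.ext (Equiv.ext hg))
      (fun U hU => hirr U fun g u hu => hU (f.rangeRestrict g) u hu)
      (P.map f.rangeRestrict) (hPn.map _ f.rangeRestrict_surjective) (hP.map _)
      (Subgroup.mem_map_of_mem _ ha)
      (fun v => by rw [← map_pow, hsm]; exact hap v)
      (hmov.imp fun v hv => by rwa [hsm])
    exact ⟨v, fun g => by simpa [← map_mul, ← map_inv, hsm] using hv (f.rangeRestrict g)⟩
  push Not at hirr
  obtain ⟨U, hU, hU0, hU1⟩ := hirr
  by_cases hUa : ∀ u ∈ U, a • u = u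
  · -- pass to the quotient
    have hsm : ∀ g : G, U ≤ U.comap (DistribSMul.toAddMonoidHom V g) := fun g u hu => hU g u hu
    letI : DistribMulAction G (V ⧸ U) :=
      { smul := fun g => QuotientAddGroup.map U U (DistribSMul.toAddMonoidHom V g) (hsm g)
        one_smul := fun x => QuotientAddGroup.induction_on x fun v => congrArg QuotientAddGroup.mk (one_smul G v)
        mul_smul := fun g h x => QuotientAddGroup.induction_on x fun v =>
          congrArg QuotientAddGroup.mk (mul_smul g h v)
        smul_zero := fun g => map_zero (QuotientAddGroup.map U U (DistribSMul.toAddMonoidHom V g) (hsm g))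
        smul_add := fun g => map_add (QuotientAddGroup.map U U (DistribSMul.toAddMonoidHom V g) (hsm g)) }
    have hmk : ∀ (g : G) (v : V), g • (v : V ⧸ U) = ((g • v : V) : V ⧸ U) := fun _ _ => rfl
    have hlt : Nat.card (V ⧸ U) < Nat.card V := by
      have h1 : 1 < Nat.card U := AddSubgroup.one_lt_card_iff_ne_bot U |>.2 hU0
      rw [AddSubgroup.card_eq_card_quotient_mul_card_addSubgroup U]
      exact lt_mul_of_one_lt_right Nat.card_pos h1
    obtain ⟨v0, hv0⟩ := hmov
    have hmov' : a • (v0 : V ⧸ U) ≠ v0 := by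
      intro h
      rw [hmk, QuotientAddGroup.eq] at h
      set d : V := -(a • v0) + v0
      have hpow : ∀ i : ℕ, a ^ i • v0 = v0 - i • d := by
        intro i
        induction i with
        | zero => simp
        | succ i ih' =>
          rw [pow_succ', mul_smul, ih', smul_sub, show a • i • d = i • a • d from map_nsmul (DistribSMul.toAddMonoidHom V a) i d, hUa d h, succ_nsmul]
          simp only [d]; abel
      have h2 := hpow p
      rw [hap, eq_sub_iff_add_eq, add_eq_left] at h2
      have := eq_zero_of_nsmul hco h2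
      exact hv0 (neg_add_eq_zero.1 this)
    obtain ⟨x, hx⟩ := ih _ (lt_of_lt_of_le hlt hn) G (V ⧸ U) le_rfl
      (hco.coprime_dvd_right (AddSubgroup.card_quotient_dvd_card U)) P hPn hP a ha
      (fun x => QuotientAddGroup.induction_on x fun v => by rw [hmk, hap]) ⟨_, hmov'⟩
    obtain ⟨v, rfl⟩ := QuotientAddGroup.mk_surjective x
    exact ⟨v, fun g hg => hx g (by rw [hmk, hg])⟩
  · push Not at hUa
    obtain ⟨u, hu, hau⟩ := hUa
    letI : DistribMulAction G U :=
      { smul := fun g w => ⟨g • (w : V), hU g w w.2⟩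
        one_smul := fun w => Subtype.ext (one_smul G (w : V))
        mul_smul := fun x y w => Subtype.ext (mul_smul x y (w : V))
        smul_zero := fun x => Subtype.ext (smul_zero x)
        smul_add := fun x v w => Subtype.ext (smul_add x (v : V) (w : V)) }
    have hlt : Nat.card U < Nat.card V :=
      lt_of_le_of_ne (AddSubgroup.card_le_card_addGroup U) fun h => hU1 (AddSubgroup.eq_top_of_card_eq U h)
    obtain ⟨w, hw⟩ := ih _ (lt_of_lt_of_le hlt hn) G U le_rfl
      (hco.coprime_dvd_right (AddSubgroup.card_addSubgroup_dvd_card U)) P hPn hP a ha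
      (fun x => Subtype.ext (hap (x : V))) ⟨⟨u, hu⟩, fun h => hau (congrArg Subtype.val h)⟩
    exact ⟨w, fun g hg => hw g (Subtype.ext hg)⟩

/-- An element of a normal `p`-subgroup, `p` odd, acting non-trivially on a finite abelian group of order
prime to `p`: some vector is fixed by none of its conjugates. -/
theorem exists_moved (hp2 : p ≠ 2) {G V : Type u} [Group G] [Finite G] [AddCommGroup V] [Finite V]
    [DistribMulAction G V] (hco : p.Coprime (Nat.card V)) (P : Subgroup G) [P.Normal] (hP : IsPGroup p P)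
    {a : G} (ha : a ∈ P) (hmov : ∃ v : V, a • v ≠ v) : ∃ v : V, ∀ g : G, (g * a * g⁻¹) • v ≠ v := by
  classical
  obtain ⟨k, hk⟩ := hP ⟨a, ha⟩
  have hk' : a ^ p ^ k = 1 := congrArg Subtype.val hk
  have hex : ∃ j : ℕ, ∀ v : V, a ^ p ^ j • v = v := ⟨k, fun v => by rw [hk', one_smul]⟩
  have hj0 : Nat.find hex ≠ 0 := fun h => by
    obtain ⟨v, hv⟩ := hmov
    have h1 := Nat.find_spec hex v
    rw [h, pow_zero, pow_one] at h1
    exact hv h1
  obtain ⟨j, hj⟩ := Nat.exists_eq_succ_of_ne_zero hj0
  have hb : ∃ v : V, a ^ p ^ j • v ≠ v := not_forall.1 (Nat.find_min hex (by omega))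
  obtain ⟨v, hv⟩ := exists_moved_aux hp2 _ G V le_rfl hco P inferInstance hP (a ^ p ^ j) (pow_mem ha _)
    (fun v => by rw [← pow_mul, ← pow_succ, show j + 1 = Nat.find hex from hj.symm]; exact Nat.find_spec hex v) hb
  refine ⟨v, fun g hg => hv g ?_⟩
  rw [← conj_pow]
  exact pow_mem (show g * a * g⁻¹ ∈ MulAction.stabilizer G v from hg) _

end Cfsg.Agent.H25.FixedVector
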