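import Cfsg.Agent.H25.FixedVector.Count
import Cfsg.Agent.PGroups.NormalSq
import Cfsg.Agent.PGroups.Extraspecial

/-!
The primitive case: every abelian normal subgroup of `G` inside the normal `p`-subgroup acts semiregularly.
-/

set_option autoImplicit false
set_option linter.style.haveILetI false
set_option linter.unusedSectionVars false

namespace Cfsg.Agent.H25.FixedVector

open scoped commutatorElement

variable {p : ℕ} [hp : Fact p.Prime]

theorem commutatorElement_pow_left_central {P : Type*} [Group P] {x y : P}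
    (h : ⁅x, y⁆ ∈ Subgroup.center P) (n : ℕ) : ⁅x ^ n, y⁆ = ⁅x, y⁆ ^ n :=
  Cfsg.Agent.PGroups.commutatorElement_pow_left_of_mem_center h n

theorem mul_pow_of_comm_center {P : Type*} [Group P] {x y : P} (h : ⁅y, x⁆ ∈ Subgroup.center P) (n : ℕ) :
    ∃ j : ℕ, (x * y) ^ n = x ^ n * y ^ n * ⁅y, x⁆ ^ j ∧ 2 * j + n = n * n := by
  induction n with
  | zero => exact ⟨0, by simp, by simp⟩
  | succ n ih =>
    obtain ⟨j, hj, hjn⟩ := ih
    refine ⟨j + n, ?_, ?_⟩
    · have hc : ∀ k : ℕ, ∀ t : P, Commute (⁅y, x⁆ ^ k) t := fun k t =>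
        (Subgroup.mem_center_iff.1 (pow_mem h k) t).symm
      have hyx : y ^ n * x = x * y ^ n * ⁅y, x⁆ ^ n := by
        have e := commutatorElement_pow_left_central h n
        rw [commutatorElement_def] at e
        have h2 : y ^ n * x = ⁅y, x⁆ ^ n * (x * y ^ n) := by
          rw [← e]; group
        rw [h2, (hc n (x * y ^ n)).eq]
      calc (x * y) ^ (n + 1) = x ^ n * y ^ n * ⁅y, x⁆ ^ j * (x * y) := by rw [pow_succ, hj]
        _ = x ^ n * (y ^ n * x) * y * ⁅y, x⁆ ^ j := by
            rw [mul_assoc _ (⁅y, x⁆ ^ j), (hc j (x * y)).eq]; group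
        _ = x ^ n * (x * y ^ n * (⁅y, x⁆ ^ n * y)) * ⁅y, x⁆ ^ j := by rw [hyx]; group
        _ = x ^ n * (x * y ^ n * (y * ⁅y, x⁆ ^ n)) * ⁅y, x⁆ ^ j := by rw [(hc n y).eq]
        _ = (x ^ n * x) * (y ^ n * y) * (⁅y, x⁆ ^ n * ⁅y, x⁆ ^ j) := by group
        _ = _ := by rw [← pow_succ, ← pow_succ, ← pow_add, add_comm n j]
    · have : (n + 1) * (n + 1) = n * n + (2 * n + 1) := by ring
      omega

variable {G V : Type*} [Group G] [Finite G] [AddCommGroup V] [Finite V] [DistribMulAction G V]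

theorem exists_moved_primitive (hp2 : p ≠ 2) {r : ℕ} [Fact r.Prime] (hpr : p ≠ r)
    (hr0 : ∀ v : V, r • v = 0) [Nontrivial V] (P : Subgroup G) [P.Normal] (hP : IsPGroup p P)
    (hprim : ∀ B : Subgroup G, B.Normal → B ≤ P → (∀ x ∈ B, ∀ y ∈ B, x * y = y * x) →
      ∀ b ∈ B, b ≠ 1 → ∀ v : V, b • v = v → v = 0)
    {a : G} (ha : a ∈ P) (hap : a ^ p = 1) (ha1 : a ≠ 1) :
    ∃ v : V, ∀ g : G, (g * a * g⁻¹) • v ≠ v := by
  classical
  have hco : p.Coprime (Nat.card V) := by
    rw [hp.out.coprime_iff_not_dvd]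
    intro hd
    obtain ⟨v, hv⟩ := exists_prime_addOrderOf_dvd_card' p hd
    have := addOrderOf_dvd_of_nsmul_eq_zero (hr0 v)
    rw [hv] at this
    exact hpr ((Nat.prime_dvd_prime_iff_eq hp.out (Fact.out : r.Prime)).1 this)
  have hne : (⊤ : Subgroup P) ≠ ⊥ := fun h => ha1 (by
    have h1 : (⟨a, ha⟩ : P) ∈ (⊥ : Subgroup P) := h ▸ Subgroup.mem_top _
    exact congrArg Subtype.val (Subgroup.mem_bot.1 h1))
  -- invariant abelian subgroups of `P` are semiregular
  have hsr : ∀ B : Subgroup P, (∀ (e : MulAut P) (x : P), x ∈ B → e x ∈ B) →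
      (∀ x ∈ B, ∀ y ∈ B, x * y = y * x) → ∀ b ∈ B, b ≠ 1 → ∀ v : V, (b : G) • v = v → v = 0 := by
    intro B hB hab b hb hb1
    refine hprim (B.map P.subtype) ⟨?_⟩ (Subgroup.map_subtype_le B) ?_ b
      (Subgroup.mem_map_of_mem P.subtype hb) (fun h => hb1 (Subtype.ext h))
    · rintro _ ⟨x, hx, rfl⟩ g
      exact ⟨MulAut.conjNormal g x, hB _ x hx, by simp [MulAut.conjNormal_apply]⟩
    · rintro _ ⟨x, hx, rfl⟩ _ ⟨y, hy, rfl⟩
      exact congrArg Subtype.val (hab x hx y hy)
  have hcen : ∀ (e : MulAut P) {x : P}, x ∈ Subgroup.center P → e x ∈ Subgroup.center P := by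
    intro e x hx
    refine Subgroup.mem_center_iff.2 fun y => ?_
    obtain ⟨y, rfl⟩ := e.surjective y
    rw [← map_mul, ← map_mul, Subgroup.mem_center_iff.1 hx y]
  -- the subgroup of exponent `p` in the second centre
  let D : Subgroup P :=
    { carrier := {x | x ^ p = 1 ∧ ∀ y, ⁅x, y⁆ ∈ Subgroup.center P}
      one_mem' := ⟨one_pow _, fun y => by simp [one_mem]⟩
      mul_mem' := by
        rintro x y ⟨hx, hx'⟩ ⟨hy, hy'⟩
        refine ⟨?_, fun t => ?_⟩
        · obtain ⟨j, hj, hjn⟩ := mul_pow_of_comm_center (hy' x) p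
          have hcp : ⁅y, x⁆ ^ p = 1 := by
            rw [← commutatorElement_pow_left_central (hy' x), hy, commutatorElement_one_left]
          obtain ⟨i, rfl⟩ : p ∣ j := by
            refine ((Nat.Coprime.dvd_mul_left ((Nat.coprime_primes hp.out Nat.prime_two).2 hp2)).1 ?_)
            have : 2 * j = p * p - p := by omega
            rw [this]
            exact Nat.dvd_sub (dvd_mul_left p p) dvd_rfl
          rw [hj, hx, hy, pow_mul, hcp]; simp
        · rw [Cfsg.Agent.PGroups.commutatorElement_mul_left_of_mem_center (hy' t)]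
          exact mul_mem (hx' t) (hy' t)
      inv_mem' := by
        rintro x ⟨hx, hx'⟩
        refine ⟨by rw [inv_pow, hx, inv_one], fun t => ?_⟩
        have h : ⁅x⁻¹, t⁆ = (x⁻¹ * ⁅x, t⁆ * x)⁻¹ := by simp only [commutatorElement_def]; group
        rw [h, Subgroup.mem_center_iff.1 (hx' t) x⁻¹, inv_mul_cancel_right]
        exact inv_mem (hx' t) }
  have hmemD : ∀ {x : P}, x ∈ D ↔ x ^ p = 1 ∧ ∀ y, ⁅x, y⁆ ∈ Subgroup.center P := Iff.rfl
  have hDinv : ∀ (e : MulAut P) (x : P), x ∈ D → e x ∈ D := by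
    intro e x hx
    refine hmemD.2 ⟨by rw [← map_pow, (hmemD.1 hx).1, map_one], fun y => ?_⟩
    obtain ⟨y, rfl⟩ := e.surjective y
    rw [← map_commutatorElement]
    exact hcen e ((hmemD.1 hx).2 y)
  haveI : D.Normal := ⟨fun x hx g => hDinv (MulAut.conj g) x hx⟩
  set C : Subgroup P := Subgroup.centralizer (D : Set P) with hC
  -- the centre of `D`
  obtain ⟨z, -, hzc, hzo⟩ := Cfsg.Agent.PGroups.exists_mem_center_orderOf_eq hP ⊤ hne
  have hzp : z ^ p = 1 := hzo ▸ pow_orderOf_eq_one z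
  have hz1 : z ≠ 1 := fun h => by rw [h, orderOf_one] at hzo; exact hp.out.one_lt.ne hzo
  have hzD : z ∈ D := hmemD.2 ⟨hzp, fun y => by
    rw [commutatorElement_eq_one_iff_mul_comm.2 (Subgroup.mem_center_iff.1 hzc y).symm]; exact one_mem _⟩
  have hsrZ : ∀ b ∈ D ⊓ C, b ≠ 1 → ∀ v : V, (b : G) • v = v → v = 0 := by
    refine hsr _ (fun e x hx => ⟨hDinv e x hx.1, Subgroup.mem_centralizer_iff.2 fun y hy => ?_⟩)
      (fun x hx y hy => (Subgroup.mem_centralizer_iff.1 hx.2 y hy.1).symm)
    obtain ⟨y, rfl⟩ := e.surjective y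
    have hy' : y ∈ D := by simpa using hDinv e.symm _ hy
    rw [← map_mul, ← map_mul, Subgroup.mem_centralizer_iff.1 hx.2 y hy']
  have hzC : z ∈ D ⊓ C :=
    ⟨hzD, Subgroup.mem_centralizer_iff.2 fun y _ => Subgroup.mem_center_iff.1 hzc y⟩
  have hDC : D ⊓ C = Subgroup.zpowers z := by
    refine le_antisymm (fun x hx => ?_) (Subgroup.zpowers_le.2 hzC)
    have hm : (x : G) ∈ Subgroup.zpowers (z : G) := by
      refine mem_zpowers_of_semiregular (V := V) hco (B := (D ⊓ C).map P.subtype) ?_ ?_ ?_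
        (Subgroup.mem_map_of_mem _ hx) (Subgroup.mem_map_of_mem _ hzC) (fun h => hz1 (Subtype.ext h))
      · rintro _ ⟨y, hy, rfl⟩; rw [← map_pow, (hmemD.1 hy.1).1, map_one]
      · rintro _ ⟨y, hy, rfl⟩ _ ⟨w, hw, rfl⟩
        rw [← map_mul, ← map_mul, (Subgroup.mem_centralizer_iff.1 hy.2 w hw.1)]
      · rintro _ ⟨y, hy, rfl⟩ hy1; exact hsrZ y hy (fun h => hy1 (by rw [h]; rfl))
    obtain ⟨n, hn⟩ := Subgroup.mem_zpowers_iff.1 hm
    exact ⟨n, Subtype.ext (by simpa using hn)⟩
  have hzcard : Nat.card (Subgroup.zpowers z) = p := by rw [Nat.card_zpowers, hzo]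
  -- commutators with `D` lie in `D ⊓ C`
  have hcommD : ∀ (g : P), ∀ x ∈ D, ⁅g, x⁆ ∈ D ⊓ C := by
    intro g x hx
    have hxg := (hmemD.1 hx).2 g
    have hgx : ⁅g, x⁆ ∈ Subgroup.center P := by rw [← commutatorElement_inv x g]; exact inv_mem hxg
    refine ⟨hmemD.2 ⟨?_, fun y => ?_⟩, Subgroup.mem_centralizer_iff.2 fun y _ =>
      Subgroup.mem_center_iff.1 hgx y⟩
    · rw [← commutatorElement_inv x g, inv_pow, ← commutatorElement_pow_left_central hxg,
        (hmemD.1 hx).1, commutatorElement_one_left, inv_one]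
    · rw [commutatorElement_eq_one_iff_mul_comm.2 (Subgroup.mem_center_iff.1 hgx y).symm]
      exact one_mem _
  have hcD : commutator D ≤ Subgroup.center D := by
    rw [commutator_eq_closure, Subgroup.closure_le]
    rintro _ ⟨x, y, rfl⟩
    refine Subgroup.mem_center_iff.2 fun w => Subtype.ext ?_
    exact Subgroup.mem_centralizer_iff.1 (hcommD (x : P) y y.2).2 w w.2
  have hcenD : ∀ x : D, x ∈ Subgroup.center D ↔ (x : P) ∈ D ⊓ C := by
    intro x
    rw [Subgroup.mem_center_iff, Subgroup.mem_inf, Subgroup.mem_centralizer_iff]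
    exact ⟨fun h => ⟨x.2, fun y hy => congrArg Subtype.val (h ⟨y, hy⟩)⟩,
      fun h y => Subtype.ext (h.2 y y.2)⟩
  have hZD : Nat.card (Subgroup.center D) = p := by
    have e : Subgroup.center D = (D ⊓ C).subgroupOf D := Subgroup.ext fun x => by
      rw [hcenD, Subgroup.mem_subgroupOf]
    rw [e, Nat.card_congr (Subgroup.subgroupOfEquivOfLe inf_le_left).toEquiv, hDC, hzcard]
  -- `P = D C`
  have hsup : D ⊔ C = ⊤ := by
    by_cases hab : Subgroup.center D = ⊤
    · refine eq_top_iff.2 fun g _ => Subgroup.mem_sup_right (Subgroup.mem_centralizer_iff.2 fun x hx => ?_)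
      have hxc : x ∈ D ⊓ C := (hcenD ⟨x, hx⟩).1 (hab ▸ Subgroup.mem_top _)
      rw [hDC] at hxc
      obtain ⟨n, rfl⟩ := Subgroup.mem_zpowers_iff.1 hxc
      exact (Subgroup.mem_center_iff.1 (zpow_mem hzc n) g).symm
    · have hdp : IsPGroup p D := hP.to_subgroup D
      have hcom : commutator D = Subgroup.center D := by
        refine Subgroup.eq_of_le_of_card_ge hcD ?_
        rw [hZD]
        have hcne : commutator D ≠ ⊥ := fun h => hab (eq_top_iff.2 fun x _ =>
          Subgroup.mem_center_iff.2 fun y => commutatorElement_eq_one_iff_mul_comm.1 (by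
            have h1 : ⁅y, x⁆ ∈ commutator D :=
              Subgroup.commutator_mem_commutator (Subgroup.mem_top y) (Subgroup.mem_top x)
            rw [h] at h1
            exact Subgroup.mem_bot.1 h1))
        exact Nat.le_of_dvd Nat.card_pos (Cfsg.Agent.PGroups.dvd_card_of_ne_bot hdp hcne)
      have hfr : frattini D = Subgroup.center D := by
        refine le_antisymm (Cfsg.Agent.PGroups.frattini_le_of_commutator_le (p := p) _ hcD fun x => ?_)
          (hcom ▸ Cfsg.Agent.PGroups.commutator_le_frattini hdp)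
        rw [show x ^ p = 1 from Subtype.ext (hmemD.1 x.2).1]
        exact one_mem _
      refine Cfsg.Agent.PGroups.sup_centralizer_eq_top (p := p) D ⟨⟨hdp, hfr, hcom⟩, hZD⟩ ?_
      rw [Subgroup.commutator_le]
      intro g _ x hx
      exact hcommD g x hx
  -- the centralizer of `D` is central
  haveI : C.Normal := by
    rw [hC]; exact Subgroup.normal_centralizer
  have hCcyc : IsCyclic C := by
    by_contra hnc
    obtain ⟨B, hBC, hBn, hBab, hBexp, hBcard⟩ :=
      Cfsg.Agent.PGroups.exists_normal_elementary_sq_le hP hp2 C hnc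
    haveI := hBn
    have hBD : B ≤ D := by
      intro b hb
      refine hmemD.2 ⟨hBexp b hb, ?_⟩
      obtain ⟨u, huB, huc, huo⟩ := Cfsg.Agent.PGroups.exists_mem_center_orderOf_eq hP B (fun h => by
        rw [h, Subgroup.card_bot] at hBcard
        exact (Nat.one_lt_pow two_ne_zero hp.out.one_lt).ne hBcard)
      intro y
      haveI : (Subgroup.zpowers u).Normal :=
        Cfsg.Agent.PGroups.normal_of_le_center (Subgroup.zpowers_le.2 huc)
      have h1 : Nat.card (Subgroup.zpowers u) * (Subgroup.zpowers u).relIndex B = Nat.card B := by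
        rw [← Subgroup.relIndex_bot_left, Subgroup.relIndex_mul_relIndex ⊥ _ _ bot_le
          (Subgroup.zpowers_le.2 huB), Subgroup.relIndex_bot_left]
      rw [Nat.card_zpowers, huo, hBcard, sq] at h1
      have h2 := Nat.eq_of_mul_eq_mul_left hp.out.pos h1
      have hq : Nat.card (B.map (QuotientGroup.mk' (Subgroup.zpowers u))) = p := by
        have h5 := Subgroup.relIndex_ker (f := QuotientGroup.mk' (Subgroup.zpowers u)) (K := B)
        rw [QuotientGroup.ker_mk', h2] at h5
        exact h5.symm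
      haveI : (B.map (QuotientGroup.mk' (Subgroup.zpowers u))).Normal :=
        hBn.map _ (QuotientGroup.mk'_surjective _)
      have h3 := Cfsg.Agent.PGroups.le_center_of_card_eq (hP.to_quotient (Subgroup.zpowers u)) _ hq
        (Subgroup.mem_map_of_mem _ hb)
      refine Subgroup.zpowers_le.2 huc ((QuotientGroup.eq_one_iff _).1 ?_)
      show QuotientGroup.mk' (Subgroup.zpowers u) ⁅b, y⁆ = 1
      rw [map_commutatorElement, commutatorElement_eq_one_iff_mul_comm]
      exact (Subgroup.mem_center_iff.1 h3 _).symm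
    have h4 := Subgroup.card_le_of_le (le_inf hBD hBC)
    rw [hBcard, hDC, hzcard] at h4
    have := hp.out.two_le
    nlinarith [sq p]
  have hCc : C ≤ Subgroup.center P := by
    intro c hc
    refine Subgroup.mem_center_iff.2 fun g => ?_
    have hg : g ∈ D ⊔ C := hsup ▸ Subgroup.mem_top g
    obtain ⟨d, hd, c', hc', rfl⟩ := Subgroup.mem_sup_of_normal_left.1 hg
    have h1 : Commute c c' := congrArg Subtype.val
      ((IsCyclic.commGroup (α := C)).mul_comm ⟨c, hc⟩ ⟨c', hc'⟩)
    exact ((Commute.symm (show Commute d c from Subgroup.mem_centralizer_iff.1 hc d hd)).mul_right h1).symm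
  set a' : P := ⟨a, ha⟩
  have haD : a' ∈ D := by
    obtain ⟨d, hd, c, hc, hdc⟩ := Subgroup.mem_sup_of_normal_left.1 (hsup ▸ Subgroup.mem_top a')
    have hcom : Commute d c := Subgroup.mem_center_iff.1 (hCc hc) d
    have hcp : c ^ p = 1 := by
      have h1 := hcom.mul_pow p
      rw [hdc, (hmemD.1 hd).1, one_mul] at h1
      rw [← h1]
      exact Subtype.ext hap
    refine hdc ▸ D.mul_mem hd (hmemD.2 ⟨hcp, fun y => ?_⟩)
    rw [commutatorElement_eq_one_iff_mul_comm.2 (Subgroup.mem_center_iff.1 (hCc hc) y).symm]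
    exact one_mem _
  by_cases hac : a' ∈ C
  · obtain ⟨v, hv⟩ := exists_ne (0 : V)
    refine ⟨v, fun g hg => hv ?_⟩
    have := hsrZ a' ⟨haD, hac⟩ (fun h => ha1 (congrArg Subtype.val h)) (g⁻¹ • v) (by
      show a • g⁻¹ • v = g⁻¹ • v
      rw [eq_inv_smul_iff, ← mul_smul, ← mul_smul, hg])
    simpa using congrArg (g • ·) this
  · let E : Subgroup G := D.map P.subtype
    let e : D ≃* E := D.equivMapOfInjective P.subtype P.subtype_injective
    have hce : ∀ x : D, e x ∈ Subgroup.center E ↔ x ∈ Subgroup.center D := by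
      intro x
      simp only [Subgroup.mem_center_iff]
      refine ⟨fun h y => e.injective (by simp only [map_mul, h (e y)]), fun h y => ?_⟩
      obtain ⟨y, rfl⟩ := e.surjective y
      rw [← map_mul, ← map_mul, h y]
    obtain ⟨v, hv⟩ := exists_unfixed_of_extraspecial (p := p) hp2 hpr hr0 E
      (by rintro _ ⟨x, hx, rfl⟩; rw [← map_pow, (hmemD.1 hx).1, map_one])
      (by rw [← hZD]; exact Nat.card_congr (Subgroup.centerCongr e).symm.toEquiv)
      (by
        rw [commutator_eq_closure, Subgroup.closure_le]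
        rintro _ ⟨x, y, rfl⟩
        obtain ⟨x, rfl⟩ := e.surjective x
        obtain ⟨y, rfl⟩ := e.surjective y
        rw [← map_commutatorElement]
        exact (hce _).2 (hcD (Subgroup.commutator_mem_commutator (Subgroup.mem_top x) (Subgroup.mem_top y))))
      (by
        intro w hw hw1
        obtain ⟨w, rfl⟩ := e.surjective w
        exact hsrZ _ ((hcenD w).1 ((hce w).1 hw)) (fun h => hw1 (by
          rw [show w = 1 from Subtype.ext h, map_one])))
      ⟨e ⟨a', haD⟩, fun h => hac ((hcenD _).1 ((hce _).1 h)).2⟩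
    refine ⟨v, fun g hg => ?_⟩
    set b : P := MulAut.conjNormal g a' with hb
    have hbv : (b : G) • v = v := by
      rw [hb, MulAut.conjNormal_apply]; exact hg
    refine hv (e ⟨b, hDinv _ _ haD⟩) (fun h => hac ?_) hbv
    have h1 := ((hcenD _).1 ((hce _).1 h)).2
    refine Subgroup.mem_centralizer_iff.2 fun y hy => ?_
    have h2 := Subgroup.mem_centralizer_iff.1 h1 _ (hDinv (MulAut.conjNormal g) y hy)
    refine (MulAut.conjNormal g).injective ?_
    rw [map_mul, map_mul]
    exact h2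

end Cfsg.Agent.H25.FixedVector
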